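import Groth.Agent.Etalg.RamRed
import Groth.Agent.CalgC.SepField
import Mathlib.FieldTheory.Relrank
import Mathlib.Algebra.Algebra.Subalgebra.Pointwise
import Mathlib.FieldTheory.PurelyInseparable.Basic

/-!
# Linear disjointness of a geometrically reduced extension and a purely inseparable one

Everything takes place inside a big field `Ω` over `K`. Let `X` be the image of a geometrically reduced extension
`L/K` in `Ω`, let `Es ⊆ E` be finite extensions of `K` in `Ω` with `Es/K` algebraic and `E/Es` purely inseparable.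
Then `X ⊔ Es` and `E` are linearly disjoint over `Es`.
-/

set_option autoImplicit false

namespace Groth.Agent.Etalg.H876.LinDisj

open Polynomial TensorProduct IntermediateField

section

variable {K L Ω : Type*} [Field K] [Field L] [Field Ω] [Algebra K L] [Algebra L Ω] [Algebra K Ω]
  [IsScalarTower K L Ω]

/-- the product map `Es ⊗[K] L → Ω` -/
noncomputable def prodMap (Es : IntermediateField K Ω) : Es ⊗[K] L →ₐ[Es] Ω :=
  Algebra.TensorProduct.lift (Algebra.ofId Es Ω) (IsScalarTower.toAlgHom K L Ω) (fun _ _ => Commute.all _ _)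

theorem prodMap_tmul (Es : IntermediateField K Ω) (x : Es) (l : L) :
    prodMap (L := L) Es (x ⊗ₜ l) = (x : Ω) * algebraMap L Ω l := by
  simp [prodMap, Algebra.ofId_apply]

theorem prodMap_mem (Es : IntermediateField K Ω) (z : Es ⊗[K] L) :
    prodMap (L := L) Es z ∈ (IsScalarTower.toAlgHom K L Ω).fieldRange ⊔ Es := by
  induction z with
  | zero => rw [map_zero]; exact zero_mem _
  | add y z hy hz => rw [map_add]; exact add_mem hy hz
  | tmul x l =>
    rw [prodMap_tmul]
    refine mul_mem (le_sup_right (a := (IsScalarTower.toAlgHom K L Ω).fieldRange) (b := Es) x.2)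
      (le_sup_left (a := (IsScalarTower.toAlgHom K L Ω).fieldRange) (b := Es) ⟨l, rfl⟩)

theorem mem_range_prodMap (Es : IntermediateField K Ω) [Algebra.IsAlgebraic K Es] {y : Ω}
    (hy : y ∈ (IsScalarTower.toAlgHom K L Ω).fieldRange ⊔ Es) :
    y ∈ (prodMap (L := L) Es).range := by
  have h1 : y ∈ ((IsScalarTower.toAlgHom K L Ω).fieldRange ⊔ Es).toSubalgebra := hy
  rw [IntermediateField.sup_toSubalgebra_of_isAlgebraic_right] at h1
  have h2 : (IsScalarTower.toAlgHom K L Ω).fieldRange.toSubalgebra ⊔ Es.toSubalgebra ≤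
      ((prodMap (L := L) Es).range).restrictScalars K := by
    refine sup_le ?_ ?_
    · rintro _ ⟨l, rfl⟩
      refine ⟨1 ⊗ₜ l, ?_⟩
      change prodMap (L := L) Es (1 ⊗ₜ l) = _
      rw [prodMap_tmul]
      simp
    · intro x hx
      refine ⟨(⟨x, hx⟩ : Es) ⊗ₜ 1, ?_⟩
      change prodMap (L := L) Es ((⟨x, hx⟩ : Es) ⊗ₜ 1) = _
      rw [prodMap_tmul]
      simp
  exact h2 h1

/-- `X ⊔ Es` is geometrically reduced over `Es`, for the image `X` of a geometrically reduced extension `L/K` -/
theorem isGeometricallyReduced_sup [Algebra.IsGeometricallyReduced K L] (Es : IntermediateField K Ω)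
    [Algebra.IsAlgebraic K Es] :
    Algebra.IsGeometricallyReduced Es
      (extendScalars (le_sup_right : Es ≤ (IsScalarTower.toAlgHom K L Ω).fieldRange ⊔ Es)) := by
  set F := extendScalars (le_sup_right : Es ≤ (IsScalarTower.toAlgHom K L Ω).fieldRange ⊔ Es) with hF
  have h1 : Algebra.IsGeometricallyReduced Es (Es ⊗[K] L) := RamRed.isGeometricallyReduced_baseChange
  have hred : IsReduced (Es ⊗[K] L) := inferInstance
  have hredL : IsReduced (L ⊗[K] Es) :=
    isReduced_of_injective _ (Algebra.TensorProduct.comm K L Es).injective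
  have hint : Algebra.IsIntegral L (L ⊗[K] Es) := inferInstance
  let f : (Es ⊗[K] L) →ₐ[Es] F := (prodMap (L := L) Es).codRestrict F.toSubalgebra (fun z => prodMap_mem Es z)
  have hf : Function.Surjective f := by
    rintro ⟨y, hy⟩
    obtain ⟨z, hz⟩ := mem_range_prodMap (L := L) Es (y := y) hy
    exact ⟨z, Subtype.ext hz⟩
  refine RamRed.isGeometricallyReduced_of_surjective (k := Es) (R₀ := Es ⊗[K] L) (E₀ := F) f hf ?_
  intro x hx
  obtain ⟨s, g, hs, hsg⟩ := RamRed.exists_mul_eq_zero_of_isIntegral (k := L) (R := L ⊗[K] Es)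
    (Algebra.TensorProduct.comm K Es L x)
  refine ⟨(Algebra.TensorProduct.comm K Es L).symm s, ?_, ?_⟩
  · intro h0
    have h2 : (Algebra.TensorProduct.comm K Es L).symm s + (Algebra.TensorProduct.comm K Es L).symm g * x = 1 := by
      apply (Algebra.TensorProduct.comm K Es L).injective
      rw [map_add, map_mul, AlgEquiv.apply_symm_apply, AlgEquiv.apply_symm_apply, map_one, hsg]
    have hx' : prodMap (L := L) Es x = 0 := congrArg Subtype.val hx
    have h0' : prodMap (L := L) Es ((Algebra.TensorProduct.comm K Es L).symm s) = 0 := congrArg Subtype.val h0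
    have h3 := congrArg (prodMap (L := L) Es) h2
    rw [map_add, map_mul, hx', h0', mul_zero, add_zero] at h3
    exact zero_ne_one (h3.trans (prodMap (L := L) Es).map_one')
  · apply (Algebra.TensorProduct.comm K Es L).injective
    rw [map_mul, AlgEquiv.apply_symm_apply, hs, map_zero]

end

section

variable {k F : Type*} [Field k] [Field F] [Algebra k F]

/-- iterated MacLane condition -/
theorem linearIndependent_pow_pow (p : ℕ) [hp : ExpChar k p] [Algebra.IsGeometricallyReduced k F]
    {ι : Type*} {v : ι → F} (hv : LinearIndependent k v) (n : ℕ) :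
    LinearIndependent k (fun i => v i ^ p ^ n) := by
  rcases hp with _ | hprime
  · simpa using hv
  · have : Fact p.Prime := ⟨hprime⟩
    have h := CalgC.SepField.powIndep_of_isGeometricallyReduced (k := k) (K := F) p
    induction n with
    | zero => simpa using hv
    | succ n ih =>
      have h1 := h.linearIndependent ih
      simpa only [← pow_mul, ← pow_succ] using h1

end

section

variable {K Ω : Type*} [Field K] [Field Ω] [Algebra K Ω]

/-- Let `Es ≤ F` be intermediate fields of `Ω/K` such that `F/Es` is geometrically reduced and let `Es ≤ E` be purely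
inseparable. Every family of elements of `E` which is linearly independent over `Es` is linearly
independent over `F`. -/
theorem linearIndependent_of_isGeometricallyReduced (p : ℕ) [ExpChar K p] {Es F E : IntermediateField K Ω}
    (hF : Es ≤ F) (hE : Es ≤ E) [Algebra.IsGeometricallyReduced Es (extendScalars hF)]
    (hpi : ∀ x ∈ E, ∃ n : ℕ, x ^ p ^ n ∈ Es) {ι : Type*} {e : ι → Ω} (heE : ∀ i, e i ∈ E)
    (he : LinearIndependent Es e) : LinearIndependent F e := by
  classical
  have hexp : ExpChar Es p := expChar_of_injective_algebraMap (algebraMap K Es).injective p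
  have hexpΩ : ExpChar Ω p := expChar_of_injective_algebraMap (algebraMap K Ω).injective p
  rw [linearIndependent_iff'] at he ⊢
  intro s g hg
  set F' := extendScalars hF with hF'
  let b := Module.Basis.ofVectorSpace Es F'
  let f : ι → F' := fun i => ⟨(g i : Ω), (g i).2⟩
  let T := s.biUnion fun i => (b.repr (f i)).support
  have hf : ∀ i ∈ s, (g i : Ω) = ∑ j ∈ T, ((b.repr (f i) j : Es) : Ω) * (b j : Ω) := by
    intro i hi
    have h1 : f i = ∑ j ∈ T, b.repr (f i) j • b j := by
      conv_lhs => rw [← b.linearCombination_repr (f i)]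
      rw [Finsupp.linearCombination_apply]
      refine Finsupp.sum_of_support_subset _ (Finset.subset_biUnion_of_mem (fun i => (b.repr (f i)).support) hi) _ ?_
      intro j _
      rw [zero_smul]
    have h2 := congrArg (fun x : F' => (x : Ω)) h1
    simp only [AddSubmonoidClass.coe_finsetSum] at h2
    exact h2
  let u : _ → Ω := fun j => ∑ i ∈ s, ((b.repr (f i) j : Es) : Ω) * e i
  have hu : ∀ j, u j ∈ E := fun j => sum_mem fun i _ => mul_mem (hE (b.repr (f i) j).2) (heE i)
  have hsum : ∑ j ∈ T, u j * (b j : Ω) = 0 := by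
    have h1 : ∑ i ∈ s, (g i : Ω) * e i = 0 := hg
    rw [← h1]
    have h2 : ∀ i ∈ s, (g i : Ω) * e i = ∑ j ∈ T, ((b.repr (f i) j : Es) : Ω) * (b j : Ω) * e i := by
      intro i hi
      rw [hf i hi, Finset.sum_mul]
    rw [Finset.sum_congr rfl h2, Finset.sum_comm]
    refine Finset.sum_congr rfl fun j _ => ?_
    rw [Finset.sum_mul]
    exact Finset.sum_congr rfl fun i _ => by ring
  choose! n hn using fun j => hpi (u j) (hu j)
  obtain ⟨N, hN⟩ : ∃ N : ℕ, ∀ j ∈ T, u j ^ p ^ N ∈ Es := by
    refine ⟨T.sup n, fun j hj => ?_⟩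
    obtain ⟨m, hm⟩ := Nat.exists_eq_add_of_le (Finset.le_sup (f := n) hj)
    rw [hm, pow_add, pow_mul]
    exact pow_mem (hn j) _
  have hlin := linearIndependent_pow_pow p b.linearIndependent N
  have hzero : ∀ j ∈ T, u j = 0 := by
    rw [linearIndependent_iff'] at hlin
    have h1 : (∑ j ∈ T.attach, (⟨u j ^ p ^ N, hN _ j.2⟩ : Es) • (b j.1 ^ p ^ N)) = 0 := by
      apply Subtype.ext
      simp only [AddSubmonoidClass.coe_finsetSum]
      have h2 : (∑ j ∈ T, u j * (b j : Ω)) ^ p ^ N = 0 := by
        rw [hsum, zero_pow (pow_ne_zero _ (expChar_pos Ω p).ne')]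
      rw [sum_pow_char_pow, ← Finset.sum_attach] at h2
      simp only [mul_pow] at h2
      exact h2
    intro j hj
    have h3 := hlin T (fun j => if hj : j ∈ T then (⟨u j ^ p ^ N, hN _ hj⟩ : Es) else 0) (by
      rw [← Finset.sum_attach]
      rw [← h1]
      refine Finset.sum_congr rfl fun j _ => ?_
      rw [dif_pos j.2]) j hj
    rw [dif_pos hj] at h3
    exact eq_zero_of_pow_eq_zero (congrArg Subtype.val h3)
  intro i hi
  have h4 : ∀ j ∈ T, b.repr (f i) j = 0 := fun j hj => he s (fun i => b.repr (f i) j) (hzero j hj) i hi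
  apply Subtype.ext
  rw [hf i hi]
  rw [Finset.sum_eq_zero fun j hj => by rw [h4 j hj]; simp]
  rfl

/-- elements of a compositum `F ⊔ E` as linear combinations -/
theorem exists_sum_of_mem_sup {Es F E : IntermediateField K Ω} (hF : Es ≤ F) [Algebra.IsAlgebraic K E]
    {ι : Type*} [Fintype ι] {e : ι → Ω}
    (hspan : ∀ y ∈ E, ∃ c : ι → Es, y = ∑ i, (c i : Ω) * e i) {y : Ω} (hy : y ∈ F ⊔ E) :
    ∃ c : ι → F, y = ∑ i, (c i : Ω) * e i := by
  have h1 : y ∈ (F ⊔ E).toSubalgebra := hy
  rw [IntermediateField.sup_toSubalgebra_of_isAlgebraic_right] at h1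
  have h2 : y ∈ Subalgebra.toSubmodule (F.toSubalgebra ⊔ E.toSubalgebra) := h1
  rw [← Subalgebra.mul_toSubmodule] at h2
  refine Submodule.mul_induction_on h2 ?_ ?_
  · intro a ha x hx
    obtain ⟨c, hc⟩ := hspan x hx
    refine ⟨fun i => ⟨a, ha⟩ * ⟨(c i : Ω), hF (c i).2⟩, ?_⟩
    rw [hc, Finset.mul_sum]
    exact Finset.sum_congr rfl fun i _ => by
      change _ = (a * (c i : Ω)) * e i
      ring
  · rintro x y ⟨c, rfl⟩ ⟨d, rfl⟩
    refine ⟨c + d, ?_⟩
    rw [← Finset.sum_add_distrib]
    exact Finset.sum_congr rfl fun i _ => by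
      change _ = ((c i : Ω) + (d i : Ω)) * e i
      ring

/-- coefficients with respect to an `F`-independent family are unique -/
theorem coeff_unique {F : IntermediateField K Ω} {ι : Type*} [Fintype ι] {e : ι → Ω}
    (he : LinearIndependent F e) {c d : ι → F} (h : ∑ i, (c i : Ω) * e i = ∑ i, (d i : Ω) * e i) : c = d := by
  have h1 := Fintype.linearIndependent_iff.1 he (fun i => c i - d i) (by
    have h2 : ∀ i, (c i - d i) • e i = (c i : Ω) * e i - (d i : Ω) * e i := fun i => by
      change ((c i : Ω) - (d i : Ω)) * e i = _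
      ring
    rw [Finset.sum_congr rfl fun i _ => h2 i, Finset.sum_sub_distrib, h, sub_self])
  funext i
  exact sub_eq_zero.1 (h1 i)

/-- An `Es`-basis of a purely inseparable `E/Es` is an `F`-basis of `F ⊔ E`, if `F/Es` is geometrically reduced. -/
noncomputable def supBasis (p : ℕ) [ExpChar K p] {Es F E : IntermediateField K Ω}
    (hF : Es ≤ F) (hE : Es ≤ E) [Algebra.IsGeometricallyReduced Es (extendScalars hF)] [Algebra.IsAlgebraic K E]
    (hpi : ∀ x ∈ E, ∃ n : ℕ, x ^ p ^ n ∈ Es) {ι : Type*} [Fintype ι]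
    (b : Module.Basis ι Es (extendScalars hE)) :
    Module.Basis ι F (extendScalars (le_sup_left : F ≤ F ⊔ E)) := by
  refine Module.Basis.mk (v := fun i => (⟨(b i : Ω), le_sup_right (a := F) (b := E) (b i).2⟩ :
    extendScalars (le_sup_left : F ≤ F ⊔ E))) ?_ ?_
  · have h1 : LinearIndependent Es (fun i => (b i : Ω)) :=
      b.linearIndependent.map' (extendScalars hE).val.toLinearMap
        (LinearMap.ker_eq_bot.mpr (extendScalars hE).val.injective)
    have h2 := linearIndependent_of_isGeometricallyReduced p hF hE hpi (fun i => (b i).2) h1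
    exact LinearIndependent.of_comp (extendScalars (le_sup_left : F ≤ F ⊔ E)).val.toLinearMap h2
  · rintro ⟨y, hy⟩ -
    obtain ⟨c, hc⟩ := exists_sum_of_mem_sup (e := fun i => (b i : Ω)) hF (E := E) (fun y hy => by
      refine ⟨b.repr ⟨y, hy⟩, ?_⟩
      have h1 := congrArg (fun z : extendScalars hE => (z : Ω)) (b.sum_repr ⟨y, hy⟩)
      simp only [AddSubmonoidClass.coe_finsetSum] at h1
      exact h1.symm) hy
    rw [Submodule.mem_span_range_iff_exists_fun]
    refine ⟨c, ?_⟩
    apply Subtype.ext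
    simp only [AddSubmonoidClass.coe_finsetSum]
    exact hc.symm

theorem supBasis_apply (p : ℕ) [ExpChar K p] {Es F E : IntermediateField K Ω}
    (hF : Es ≤ F) (hE : Es ≤ E) [Algebra.IsGeometricallyReduced Es (extendScalars hF)] [Algebra.IsAlgebraic K E]
    (hpi : ∀ x ∈ E, ∃ n : ℕ, x ^ p ^ n ∈ Es) {ι : Type*} [Fintype ι]
    (b : Module.Basis ι Es (extendScalars hE)) (i : ι) :
    (supBasis p hF hE hpi b i : Ω) = b i := by
  rw [supBasis, Module.Basis.mk_apply]

theorem finrank_sup (p : ℕ) [ExpChar K p] {Es F E : IntermediateField K Ω}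
    (hF : Es ≤ F) (hE : Es ≤ E) [Algebra.IsGeometricallyReduced Es (extendScalars hF)] [FiniteDimensional K E]
    (hpi : ∀ x ∈ E, ∃ n : ℕ, x ^ p ^ n ∈ Es) :
    Module.finrank F (extendScalars (le_sup_left : F ≤ F ⊔ E)) = Module.finrank Es (extendScalars hE) := by
  have : FiniteDimensional K (extendScalars hE) := inferInstanceAs (FiniteDimensional K E)
  have : FiniteDimensional Es (extendScalars hE) := FiniteDimensional.right K Es (extendScalars hE)
  rw [Module.finrank_eq_card_basis (supBasis p hF hE hpi (Module.finBasis Es (extendScalars hE))), Fintype.card_fin]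

theorem relfinrank_sup (p : ℕ) [ExpChar K p] {Es F E : IntermediateField K Ω}
    (hF : Es ≤ F) (hE : Es ≤ E) [Algebra.IsGeometricallyReduced Es (extendScalars hF)] [FiniteDimensional K E]
    (hpi : ∀ x ∈ E, ∃ n : ℕ, x ^ p ^ n ∈ Es) :
    relfinrank F (F ⊔ E) = relfinrank Es E := by
  rw [relfinrank_eq_finrank_of_le le_sup_left, relfinrank_eq_finrank_of_le hE]
  exact finrank_sup p hF hE hpi

end

section

variable {K L Ω : Type*} [Field K] [Field L] [Field Ω] [Algebra K L] [Algebra L Ω] [Algebra K Ω]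
  [IsScalarTower K L Ω] [Algebra.IsGeometricallyReduced K L]

/-- (a) for `F = X ⊔ Es` where `X` is the image of `L` -/
theorem linearIndependent_sup (p : ℕ) [ExpChar K p] {Es E : IntermediateField K Ω} [Algebra.IsAlgebraic K Es]
    (hE : Es ≤ E) (hpi : ∀ x ∈ E, ∃ n : ℕ, x ^ p ^ n ∈ Es) {ι : Type*} {e : ι → Ω} (heE : ∀ i, e i ∈ E)
    (he : LinearIndependent Es e) :
    LinearIndependent ((IsScalarTower.toAlgHom K L Ω).fieldRange ⊔ Es : IntermediateField K Ω) e := by
  have := isGeometricallyReduced_sup (L := L) Es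
  exact linearIndependent_of_isGeometricallyReduced p le_sup_right hE hpi heE he

/-- elementwise form of (a) and (b): the coefficients exist and are unique. -/
theorem existsUnique_sum (p : ℕ) [ExpChar K p] {Es E : IntermediateField K Ω} [Algebra.IsAlgebraic K Es]
    [Algebra.IsAlgebraic K E] (hE : Es ≤ E) (hpi : ∀ x ∈ E, ∃ n : ℕ, x ^ p ^ n ∈ Es) {ι : Type*} [Fintype ι]
    {e : ι → Ω} (heE : ∀ i, e i ∈ E) (he : LinearIndependent Es e)
    (hspan : ∀ y ∈ E, ∃ c : ι → Es, y = ∑ i, (c i : Ω) * e i) {y : Ω}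
    (hy : y ∈ ((IsScalarTower.toAlgHom K L Ω).fieldRange ⊔ Es) ⊔ E) :
    ∃! c : ι → ((IsScalarTower.toAlgHom K L Ω).fieldRange ⊔ Es : IntermediateField K Ω),
      y = ∑ i, (c i : Ω) * e i := by
  obtain ⟨c, hc⟩ := exists_sum_of_mem_sup
    (le_sup_right : Es ≤ (IsScalarTower.toAlgHom K L Ω).fieldRange ⊔ Es) hspan hy
  refine ⟨c, hc, fun d hd => ?_⟩
  exact coeff_unique (linearIndependent_sup (L := L) p hE hpi heE he) (hd.symm.trans hc)

/-- (a) in elementwise form, coefficients in `Ω` -/
theorem eq_zero_of_sum_eq_zero (p : ℕ) [ExpChar K p] {Es E : IntermediateField K Ω} [Algebra.IsAlgebraic K Es]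
    (hE : Es ≤ E) (hpi : ∀ x ∈ E, ∃ n : ℕ, x ^ p ^ n ∈ Es) {ι : Type*} [Fintype ι]
    {e : ι → Ω} (heE : ∀ i, e i ∈ E) (he : LinearIndependent Es e) (c : ι → Ω)
    (hc : ∀ j, c j ∈ (IsScalarTower.toAlgHom K L Ω).fieldRange ⊔ Es) (h0 : ∑ j, c j * e j = 0) (j : ι) :
    c j = 0 := by
  have h1 := Fintype.linearIndependent_iff.1 (linearIndependent_sup (L := L) p hE hpi heE he)
    (fun i => ⟨c i, hc i⟩) h0 j
  exact congrArg Subtype.val h1

omit [Algebra.IsGeometricallyReduced K L] in
/-- (b) in elementwise form, coefficients in `Ω` -/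
theorem exists_sum {Es E : IntermediateField K Ω} [Algebra.IsAlgebraic K E] (hE : Es ≤ E)
    {ι : Type*} [Fintype ι] {e : ι → Ω}
    (hspan : ∀ y ∈ E, ∃ c : ι → Ω, (∀ j, c j ∈ Es) ∧ y = ∑ i, c i * e i) {y : Ω}
    (hy : y ∈ (IsScalarTower.toAlgHom K L Ω).fieldRange ⊔ E) :
    ∃ c : ι → Ω, (∀ j, c j ∈ (IsScalarTower.toAlgHom K L Ω).fieldRange ⊔ Es) ∧ y = ∑ i, c i * e i := by
  obtain ⟨c, hc⟩ := exists_sum_of_mem_sup
    (le_sup_right : Es ≤ (IsScalarTower.toAlgHom K L Ω).fieldRange ⊔ Es) (E := E)
    (e := e) (fun y hy => by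
      obtain ⟨c, hc, h⟩ := hspan y hy
      exact ⟨fun i => ⟨c i, hc i⟩, h⟩)
    (y := y) (by
      rw [sup_assoc, sup_eq_right.2 hE]
      exact hy)
  exact ⟨fun i => c i, fun i => (c i).2, hc⟩

/-- the degree does not change under the base change from `Es` to `X ⊔ Es` -/
theorem relfinrank_sup_sup (p : ℕ) [ExpChar K p] {Es E : IntermediateField K Ω} [Algebra.IsAlgebraic K Es]
    [FiniteDimensional K E] (hE : Es ≤ E) (hpi : ∀ x ∈ E, ∃ n : ℕ, x ^ p ^ n ∈ Es) :
    relfinrank ((IsScalarTower.toAlgHom K L Ω).fieldRange ⊔ Es) (((IsScalarTower.toAlgHom K L Ω).fieldRange ⊔ Es) ⊔ E)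
      = relfinrank Es E := by
  have := isGeometricallyReduced_sup (L := L) Es
  exact relfinrank_sup p le_sup_right hE hpi

end

section

variable {K Ω : Type*} [Field K] [Field Ω] [Algebra K Ω]

/-- For an algebraic `E/K` the separable closure `Es` of `K` in `E`, taken as an intermediate field of `Ω/K`,
satisfies the hypotheses above. -/
theorem exists_separable_part (p : ℕ) [ExpChar K p] (E : IntermediateField K Ω) [Algebra.IsAlgebraic K E] :
    ∃ Es : IntermediateField K Ω, Es ≤ E ∧ Algebra.IsSeparable K Es ∧ ∀ x ∈ E, ∃ n : ℕ, x ^ p ^ n ∈ Es := by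
  refine ⟨(separableClosure K E).map E.val, ?_, ?_, ?_⟩
  · rintro _ ⟨x, -, rfl⟩
    exact x.2
  · have h1 : Algebra.IsSeparable K (separableClosure K E) := inferInstance
    exact AlgEquiv.Algebra.isSeparable ((separableClosure K E).equivMap E.val)
  · intro x hx
    have h2 : IsPurelyInseparable (separableClosure K E) E := inferInstance
    have h3 : ExpChar (separableClosure K E) p :=
      expChar_of_injective_algebraMap (algebraMap K (separableClosure K E)).injective p
    obtain ⟨n, y, hy⟩ := IsPurelyInseparable.pow_mem (separableClosure K E) p (⟨x, hx⟩ : E)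
    refine ⟨n, ⟨(y : E), y.2, ?_⟩⟩
    have h4 := congrArg (fun z : E => (z : Ω)) hy
    exact h4

end

end Groth.Agent.Etalg.H876.LinDisj
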